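import Cfsg.Agent.Spor.U12672A1.D0

set_option autoImplicit false
set_option maxRecDepth 100000000
set_option Elab.async false

namespace Cfsg.Agent.Spor.U12672A1

theorem ok0 : Net.okb 1 n0 = true := by decide +kernel

theorem ok1 : Net.okb 1 n1 = true := by decide +kernel

theorem ok2 : Net.okb 1 n2 = true := by decide +kernel

theorem ok3 : Net.okb 1 n3 = true := by decide +kernel

theorem ok4 : Net.okb 1 n4 = true := by decide +kernel

theorem ok5 : Net.okb 1 n5 = true := by decide +kernel

theorem ok6 : Net.okb 1 n6 = true := by decide +kernel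

theorem ok7 : Net.okb 1 n7 = true := by decide +kernel

theorem ok8 : Net.okb 1 n8 = true := by decide +kernel

theorem rel0 : T.rel 1 [1, 1] 0 1 = true := by decide +kernel

theorem rel1 : T.rel 1 [2, 2] 0 1 = true := by decide +kernel

theorem rel2 : T.rel 1 [3, 3] 0 1 = true := by decide +kernel

theorem rel3 : T.rel 1 [4, 4] 0 1 = true := by decide +kernel

theorem rel4 : T.rel 1 [5, 5] 0 1 = true := by decide +kernel

theorem rel5 : T.rel 1 [6, 6] 0 1 = true := by decide +kernel

theorem rel6 : T.rel 1 [7, 7] 0 1 = true := by decide +kernel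

theorem rel7 : T.rel 1 [8, 8] 0 1 = true := by decide +kernel

theorem rel8 : T.rel 1 [9, 9] 0 1 = true := by decide +kernel

theorem rel9 : T.rel 1 [3, 2, 3, 2, 3, 2] 0 1 = true := by decide +kernel

theorem rel10 : T.rel 1 [4, 2, 4, 2] 0 1 = true := by decide +kernel

theorem rel11 : T.rel 1 [5, 2, 5, 2] 0 1 = true := by decide +kernel

theorem rel12 : T.rel 1 [6, 2, 6, 2] 0 1 = true := by decide +kernel

theorem rel13 : T.rel 1 [7, 2, 7, 2] 0 1 = true := by decide +kernel

theorem rel14 : T.rel 1 [8, 2, 8, 2] 0 1 = true := by decide +kernel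

theorem rel15 : T.rel 1 [9, 2, 9, 2] 0 1 = true := by decide +kernel

theorem rel16 : T.rel 1 [4, 3, 4, 3, 4, 3] 0 1 = true := by decide +kernel

theorem rel17 : T.rel 1 [5, 3, 5, 3] 0 1 = true := by decide +kernel

theorem rel18 : T.rel 1 [6, 3, 6, 3] 0 1 = true := by decide +kernel

theorem rel19 : T.rel 1 [7, 3, 7, 3, 7, 3] 0 1 = true := by decide +kernel

theorem rel20 : T.rel 1 [8, 3, 8, 3] 0 1 = true := by decide +kernel

theorem rel21 : T.rel 1 [9, 3, 9, 3] 0 1 = true := by decide +kernel

theorem rel22 : T.rel 1 [5, 4, 5, 4, 5, 4] 0 1 = true := by decide +kernel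

theorem rel23 : T.rel 1 [6, 4, 6, 4] 0 1 = true := by decide +kernel

theorem rel24 : T.rel 1 [7, 4, 7, 4] 0 1 = true := by decide +kernel

theorem rel25 : T.rel 1 [8, 4, 8, 4] 0 1 = true := by decide +kernel

theorem rel26 : T.rel 1 [9, 4, 9, 4] 0 1 = true := by decide +kernel

theorem rel27 : T.rel 1 [6, 5, 6, 5, 6, 5] 0 1 = true := by decide +kernel

theorem rel28 : T.rel 1 [7, 5, 7, 5] 0 1 = true := by decide +kernel

theorem rel29 : T.rel 1 [8, 5, 8, 5] 0 1 = true := by decide +kernel

theorem rel30 : T.rel 1 [9, 5, 9, 5, 9, 5] 0 1 = true := by decide +kernel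

theorem rel31 : T.rel 1 [7, 6, 7, 6] 0 1 = true := by decide +kernel

theorem rel32 : T.rel 1 [8, 6, 8, 6] 0 1 = true := by decide +kernel

theorem rel33 : T.rel 1 [9, 6, 9, 6] 0 1 = true := by decide +kernel

theorem rel34 : T.rel 1 [8, 7, 8, 7, 8, 7] 0 1 = true := by decide +kernel

theorem rel35 : T.rel 1 [9, 7, 9, 7] 0 1 = true := by decide +kernel

theorem rel36 : T.rel 1 [9, 8, 9, 8, 9, 8] 0 1 = true := by decide +kernel

theorem rel37 : T.rel 1 [2, 1, 2, 1] 0 1 = true := by decide +kernel

theorem rel38 : T.rel 1 [3, 1, 3, 1] 0 1 = true := by decide +kernel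

theorem rel39 : T.rel 1 [4, 1, 4, 1] 0 1 = true := by decide +kernel

theorem rel40 : T.rel 1 [5, 1, 5, 1] 0 1 = true := by decide +kernel

theorem rel41 : T.rel 1 [6, 1, 6, 1] 0 1 = true := by decide +kernel

theorem rel42 : T.rel 1 [7, 1, 7, 1] 0 1 = true := by decide +kernel

theorem rel43 : T.rel 1 [8, 1, 8, 1] 0 1 = true := by decide +kernel

theorem rel44 : T.rel 1 [9, 1, 9, 1] 0 1 = true := by decide +kernel

theorem rel45 : T.rel 1 [2, 6, 5, 4, 3, 7, 8, 2, 6, 5, 4, 3, 7, 8, 2, 6, 5, 4, 3, 7, 8, 2, 6, 5, 4, 3, 7, 8, 2, 6, 5, 4, 3, 7, 8, 2, 6, 5, 4, 3, 7, 8, 2, 6, 5, 4, 3, 7, 8, 2, 6, 5, 4, 3, 7, 8, 2, 6, 5, 4, 3, 7, 8] 0 1 = true := by decide +kernel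

theorem rel46 : T.rel 1 [9, 5, 4, 3, 8, 7, 9, 5, 8, 9, 4, 3, 7, 8, 5, 9, 4, 5, 3, 4, 7, 3, 8, 7] 0 1 = true := by decide +kernel

theorem rel47 : T.rel 1 [9, 5, 4, 3, 6, 5, 4, 7, 9, 5, 6, 3, 4, 5, 9, 7, 3, 4, 5, 6, 7, 3, 4, 5, 7, 3, 4, 7, 3, 7] 0 1 = true := by decide +kernel

theorem rel48 : T.rel 1 [1, 9, 5, 4, 3, 2, 7, 3, 4, 5, 9, 7, 3, 2, 4, 5, 3, 4, 7, 3, 2, 7, 3, 4, 5, 7, 3, 4, 7, 3, 7] 0 1 = true := by decide +kernel

theorem rel49 : T.rel 1 [3, 2, 3, 2] 0 1 = true := by decide +kernel

theorem rel50 : T.rel 1 [4, 3, 4, 3] 0 1 = true := by decide +kernel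

theorem rel51 : T.rel 1 [7, 3, 7, 3] 0 1 = true := by decide +kernel

theorem rel52 : T.rel 1 [5, 4, 5, 4] 0 1 = true := by decide +kernel

theorem rel53 : T.rel 1 [6, 5, 6, 5] 0 1 = true := by decide +kernel

theorem rel54 : T.rel 1 [9, 5, 9, 5] 0 1 = true := by decide +kernel

theorem rel55 : T.rel 1 [8, 7, 8, 7] 0 1 = true := by decide +kernel

theorem rel56 : T.rel 1 [9, 8, 9, 8] 0 1 = true := by decide +kernel

theorem hcov : T.treeCov (ones 1) L 1 = true := by decide +kernel

theorem hg : lall (fun z => band (memL L z) (band (sub (ones 1) (T.let z).cl) (T.closed (ones 1) z))) gs = true := by decide +kernel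

theorem hivk : ivOk (2 * 9) EX IV = true := by decide +kernel

theorem hrt : RT.ok (2 * 9) EX RL = true := by decide +kernel

theorem hdefs : defs F 35 = true := by decide +kernel

noncomputable def st0_l : List Nat := [nat_lit 0x120000100001403, nat_lit 0x2300004800004000050002300004806, nat_lit 0x470002480000803, nat_lit 0x2500004802, nat_lit 0x140000100001c03, nat_lit 0x140002600001c03, nat_lit 0x2800005000098000070002800005006, nat_lit 0x4f0002980000803, nat_lit 0x2a00005002, nat_lit 0x160000100002403, nat_lit 0x160002b00002403, nat_lit 0x2d000058000ac000090002d00005806, nat_lit 0x590002e80000803, nat_lit 0x2f00005802, nat_lit 0x180000100002c03, nat_lit 0x180003000002c03, nat_lit 0x32000060000c00000b0003200006006, nat_lit 0x630003380000803, nat_lit 0x3400006002, nat_lit 0x1a0000100003403, nat_lit 0x1a0002600003403, nat_lit 0x37000068000980000d0003700006806, nat_lit 0x6d0003880000803, nat_lit 0x3900006802, nat_lit 0x1c0000100003c03, nat_lit 0x1c0003a00003c03, nat_lit 0x3c000070000e80000f0003c00007006, nat_lit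 0x770003d80000803, nat_lit 0x3e00007002, nat_lit 0x7e000018001a8000c200056000268001d0000fe0000200035800180000ae0004c0003a8001f8000060006a000308001580009a000740003f800008000d6000600002b800130000ea0007e000018001a8000c200056000268001d0000fe0000200035800180000ae0004c0003a8001f8000060006a000308001580009a000740003f800008000d6000600002b800130000ea0007e000018001a8000c200056000268001d03f, nat_lit 0x4000000802, nat_lit 0x4000013002, nat_lit 0x4000015802, nat_lit 0x4000018002, nat_lit 0x400001d002, nat_lit 0x400001f802, nat_lit 0x100004600004403, nat_lit 0x8000230000220008e0000800023006, nat_lit 0x4800004002, nat_lit 0x92000440002180010800083000458002140010e000890004980022c0010a00083000438002240010a0008700045800214001060008b0004280021c001120008b0004280021c0011600085000458000001f, nat_lit 0x80025402, nat_lit 0x2c0001000007803, nat_lit 0x168002640003e000210001680026406, nat_lit 0x2c0004d80007c03, nat_lit 0x4e00026402, nat_lit 0x2e0001100007803, nat_lit 0x220004f80028003, nat_lit 0x5080027800046000a30005080027806, nat_lit 0x2f0005280007803,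 nat_lit 0x5300008802, nat_lit 0x300001200007803, nat_lit 0x24000540002a803, nat_lit 0x558002a40004a000ad000558002a406, nat_lit 0x310005780007803, nat_lit 0x5800009002, nat_lit 0x320001300007803, nat_lit 0x26000590002d003, nat_lit 0x5a8002cc0004e000b70005a8002cc06, nat_lit 0x330005c80007803, nat_lit 0x5d00009802, nat_lit 0x340001400007803, nat_lit 0x280004f8002f803, nat_lit 0x5f80027800052000c10005f80027806, nat_lit 0x350006180007803, nat_lit 0x620000a002, nat_lit 0x360001500007803, nat_lit 0x2a0006300032003, nat_lit 0x6480031c00056000cb0006480031c06, nat_lit 0x370006680007803, nat_lit 0x670000a802, nat_lit 0xc60004f0002a000166000bc0000f8003400018e0009f000548002c80017a0001e000688003180013c000a8000598002f00003e000d00006380027c00152000b20005e800078001a2000c60004f0002a000166000bc0000f8003400018e0009f000548002c80017a0001e000688003180013c000a8000598002f00003e000d00006380027c00152000b20005e800078001a2000c60004f0002a000166000bc0000f8003403f, nat_lit 0xf80034c02, nat_lit 0x380006a8000e403, nat_lit 0x6b0000e0001a8000390006b0000e006,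 nat_lit 0x1c80036402, nat_lit 0x3a0006d8000ec03, nat_lit 0x6e0000e8001b40003b0006e0000e806, nat_lit 0x1d80037c02, nat_lit 0x3c000708000f403, nat_lit 0x710000f0001c00003d000710000f006, nat_lit 0x1e80039402, nat_lit 0x3e000738000fc03, nat_lit 0x740000f8001cc0003f000740000f806, nat_lit 0x1f8003ac02, nat_lit 0x400006d80010403, nat_lit 0x77000100001b4000410007700010006, nat_lit 0x208003c402, nat_lit 0x420007980010c03, nat_lit 0x7a000108001e4000430007a00010806, nat_lit 0x218003dc02, nat_lit 0x440007380011403, nat_lit 0x7d000110001cc000450007d00011006, nat_lit 0x228003f402]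
theorem st0 : band (steps F IV RT base st0_l 35) (Nat.beq (Nat.add 35 (llen st0_l)) 128) = true := by decide +kernel

theorem ep0a : T.treePath [] (Nat.shiftLeft 1 0) 1 = true := by decide +kernel

theorem ep0b : T.treePath [] (Nat.shiftLeft 1 0) 1 = true := by decide +kernel

theorem ep0c : band (lall (fun z => Nat.ble z 255) ([] ++ 1 :: [])) (concl F IV 128 0x25801 (encA ([] ++ 1 :: []) 0)) = true := by decide +kernel

theorem ep0d : band (Rule.ok (2 * 9) EX [] ⟨lapp [] [], [], 0, false⟩) (band (lall (memL L) []) (lall (memL L) [])) = true := by decide +kernel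

theorem cov1 : T.cover 1 [(Nat.shiftLeft 1 0)] = true := by decide +kernel

theorem tl1 : Nat.beq (T.let 1).tt 0 = true := by decide +kernel

theorem ep1a : T.treePath [] (Nat.shiftLeft 1 0) 1 = true := by decide +kernel

theorem ep1b : T.treePath [] (Nat.shiftLeft 1 0) 1 = true := by decide +kernel

theorem ep1c : band (lall (fun z => Nat.ble z 255) ([] ++ 2 :: [])) (concl F IV 128 0x35001 (encA ([] ++ 2 :: []) 0)) = true := by decide +kernel

theorem ep1d : band (Rule.ok (2 * 9) EX [] ⟨lapp [] [], [], 0, false⟩) (band (lall (memL L) []) (lall (memL L) [])) = true := by decide +kernel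

theorem cov2 : T.cover 2 [(Nat.shiftLeft 1 0)] = true := by decide +kernel

theorem tl2 : Nat.beq (T.let 2).tt 0 = true := by decide +kernel

theorem ep2a : T.treePath [] (Nat.shiftLeft 1 0) 1 = true := by decide +kernel

theorem ep2b : T.treePath [] (Nat.shiftLeft 1 0) 1 = true := by decide +kernel

theorem ep2c : band (lall (fun z => Nat.ble z 255) ([] ++ 3 :: [])) (concl F IV 128 0x36801 (encA ([] ++ 3 :: []) 0)) = true := by decide +kernel

theorem ep2d : band (Rule.ok (2 * 9) EX [] ⟨lapp [] [], [], 0, false⟩) (band (lall (memL L) []) (lall (memL L) [])) = true := by decide +kernel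

theorem cov3 : T.cover 3 [(Nat.shiftLeft 1 0)] = true := by decide +kernel

theorem tl3 : Nat.beq (T.let 3).tt 0 = true := by decide +kernel

theorem ep3a : T.treePath [] (Nat.shiftLeft 1 0) 1 = true := by decide +kernel

theorem ep3b : T.treePath [] (Nat.shiftLeft 1 0) 1 = true := by decide +kernel

theorem ep3c : band (lall (fun z => Nat.ble z 255) ([] ++ 4 :: [])) (concl F IV 128 0x38001 (encA ([] ++ 4 :: []) 0)) = true := by decide +kernel

theorem ep3d : band (Rule.ok (2 * 9) EX [] ⟨lapp [] [], [], 0, false⟩) (band (lall (memL L) []) (lall (memL L) [])) = true := by decide +kernel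

theorem cov4 : T.cover 4 [(Nat.shiftLeft 1 0)] = true := by decide +kernel

theorem tl4 : Nat.beq (T.let 4).tt 0 = true := by decide +kernel

theorem ep4a : T.treePath [] (Nat.shiftLeft 1 0) 1 = true := by decide +kernel

theorem ep4b : T.treePath [] (Nat.shiftLeft 1 0) 1 = true := by decide +kernel

theorem ep4c : band (lall (fun z => Nat.ble z 255) ([] ++ 5 :: [])) (concl F IV 128 0x39801 (encA ([] ++ 5 :: []) 0)) = true := by decide +kernel

theorem ep4d : band (Rule.ok (2 * 9) EX [] ⟨lapp [] [], [], 0, false⟩) (band (lall (memL L) []) (lall (memL L) [])) = true := by decide +kernel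

theorem cov5 : T.cover 5 [(Nat.shiftLeft 1 0)] = true := by decide +kernel

theorem tl5 : Nat.beq (T.let 5).tt 0 = true := by decide +kernel

theorem ep5a : T.treePath [] (Nat.shiftLeft 1 0) 1 = true := by decide +kernel

theorem ep5b : T.treePath [] (Nat.shiftLeft 1 0) 1 = true := by decide +kernel

theorem ep5c : band (lall (fun z => Nat.ble z 255) ([] ++ 6 :: [])) (concl F IV 128 0x3b001 (encA ([] ++ 6 :: []) 0)) = true := by decide +kernel

theorem ep5d : band (Rule.ok (2 * 9) EX [] ⟨lapp [] [], [], 0, false⟩) (band (lall (memL L) []) (lall (memL L) [])) = true := by decide +kernel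

theorem cov6 : T.cover 6 [(Nat.shiftLeft 1 0)] = true := by decide +kernel

theorem tl6 : Nat.beq (T.let 6).tt 0 = true := by decide +kernel

theorem ep6a : T.treePath [] (Nat.shiftLeft 1 0) 1 = true := by decide +kernel

theorem ep6b : T.treePath [] (Nat.shiftLeft 1 0) 1 = true := by decide +kernel

theorem ep6c : band (lall (fun z => Nat.ble z 255) ([] ++ 7 :: [])) (concl F IV 128 0x3c801 (encA ([] ++ 7 :: []) 0)) = true := by decide +kernel

theorem ep6d : band (Rule.ok (2 * 9) EX [] ⟨lapp [] [], [], 0, false⟩) (band (lall (memL L) []) (lall (memL L) [])) = true := by decide +kernel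

theorem cov7 : T.cover 7 [(Nat.shiftLeft 1 0)] = true := by decide +kernel

theorem tl7 : Nat.beq (T.let 7).tt 0 = true := by decide +kernel

theorem ep7a : T.treePath [] (Nat.shiftLeft 1 0) 1 = true := by decide +kernel

theorem ep7b : T.treePath [] (Nat.shiftLeft 1 0) 1 = true := by decide +kernel

theorem ep7c : band (lall (fun z => Nat.ble z 255) ([] ++ 8 :: [])) (concl F IV 128 0x3e001 (encA ([] ++ 8 :: []) 0)) = true := by decide +kernel

theorem ep7d : band (Rule.ok (2 * 9) EX [] ⟨lapp [] [], [], 0, false⟩) (band (lall (memL L) []) (lall (memL L) [])) = true := by decide +kernel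

theorem cov8 : T.cover 8 [(Nat.shiftLeft 1 0)] = true := by decide +kernel

theorem tl8 : Nat.beq (T.let 8).tt 0 = true := by decide +kernel

theorem ep8a : T.treePath [] (Nat.shiftLeft 1 0) 1 = true := by decide +kernel

theorem ep8b : T.treePath [] (Nat.shiftLeft 1 0) 1 = true := by decide +kernel

theorem ep8c : band (lall (fun z => Nat.ble z 255) ([] ++ 9 :: [])) (concl F IV 128 0x3f801 (encA ([] ++ 9 :: []) 0)) = true := by decide +kernel

theorem ep8d : band (Rule.ok (2 * 9) EX [] ⟨lapp [] [], [], 0, false⟩) (band (lall (memL L) []) (lall (memL L) [])) = true := by decide +kernel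

theorem cov9 : T.cover 9 [(Nat.shiftLeft 1 0)] = true := by decide +kernel

theorem tl9 : Nat.beq (T.let 9).tt 0 = true := by decide +kernel

end Cfsg.Agent.Spor.U12672A1
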