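import Cfsg.Agent.Spor.Chk

set_option autoImplicit false
set_option maxRecDepth 100000000
set_option Elab.async false
noncomputable section

namespace Cfsg.Agent.Spor.U12672A1

def n0 : Net := Net.nil

def n1 : Net := Net.nil

def n2 : Net := Net.nil

def n3 : Net := Net.nil

def n4 : Net := Net.nil

def n5 : Net := Net.nil

def n6 : Net := Net.nil

def n7 : Net := Net.nil

def n8 : Net := Net.nil

def ip1 : List Nat := []
def l1 : Let := ⟨0, false, 0x1, 0x0, [0x0]⟩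

def ip2 : List Nat := []
def l2 : Let := ⟨1, false, 0x1, 0x0, [0x0]⟩

def ip3 : List Nat := []
def l3 : Let := ⟨2, false, 0x1, 0x0, [0x0]⟩

def ip4 : List Nat := []
def l4 : Let := ⟨3, false, 0x1, 0x0, [0x0]⟩

def ip5 : List Nat := []
def l5 : Let := ⟨4, false, 0x1, 0x0, [0x0]⟩

def ip6 : List Nat := []
def l6 : Let := ⟨5, false, 0x1, 0x0, [0x0]⟩

def ip7 : List Nat := []
def l7 : Let := ⟨6, false, 0x1, 0x0, [0x0]⟩

def ip8 : List Nat := []
def l8 : Let := ⟨7, false, 0x1, 0x0, [0x0]⟩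

def ip9 : List Nat := []
def l9 : Let := ⟨8, false, 0x1, 0x0, [0x0]⟩

def F : Nat := nat_lit 0x90000000000000002300023050002300000080000000000000002200022070002200000070000000000000002100021030002100000060000000000000002000020050002000000050000000000000001f0001f040001f00000040000000000000001e0001e030001e00000030000000000000001d0001d020001d00000020000000000000001000010080000000000000001600010000001c0001c070001600000080001c00010070000000000000001500010000001b0001b030001500000070001b00010060000000000000001400010000001a0001a050001400000060001a00010050000000000000001300010000001900019040001300000050001900010040000000000000001200010000001800018030001200000040001800000030001000010000001700000000001100000030001700000010000000000000000100001090000100001000000900009080000900001080000100001070000100001050000100001040000100001030000100001020000100001000000200002080000100001000000f00002000000800008070000f0000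8020000f00002070000100001000000e00002000000700007030000e00007020000e00002060000100001000000d00002000000600006050000d00006020000d00002050000100001000000c00002000000500005040000c00005020000c00002040000100001000000b00002000000400004030000b00004020000b00002030000100001000000a00002000000300003020000a0002309000000002208000000002107000000002006000000001f05000000001e04000000001d03000000001c02000160001b02000150001a02000140001902000130001802000120001702000110001608000100001507000100001406000100001305000100001204000100001103000100001002000000000f08000020000e07000020000d06000020000c05000020000b04000020000a0300002000090900001000080800001000070700001000060600001000050500001000040400001000030300001000020200001000010100000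

def rt0_11 : RTree := RTree.node 0x606 ⟨[6, 6], [], 76, false⟩ (RTree.node 0x303 ⟨[3, 3], [], 76, false⟩ (RTree.node 0x202 ⟨[2, 2], [], 76, false⟩ (RTree.node 0x101 ⟨[1, 1], [], 76, false⟩ (RTree.leaf) (RTree.leaf)) (RTree.leaf)) (RTree.node 0x505 ⟨[5, 5], [], 76, false⟩ (RTree.node 0x404 ⟨[4, 4], [], 76, false⟩ (RTree.leaf) (RTree.leaf)) (RTree.leaf))) (RTree.node 0x909 ⟨[9, 9], [], 76, false⟩ (RTree.node 0x808 ⟨[8, 8], [], 76, false⟩ (RTree.node 0x707 ⟨[7, 7], [], 76, false⟩ (RTree.leaf) (RTree.leaf)) (RTree.leaf)) (RTree.node 0x2040204 ⟨[2, 4, 2, 4], [], 1, false⟩ (RTree.node 0x2030203 ⟨[2, 3, 2, 3], [], 48, false⟩ (RTree.leaf) (RTree.leaf)) (RTree.leaf)))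
def rt12_22 : RTree := RTree.node 0x3070307 ⟨[3, 7, 3, 7], [], 58, false⟩ (RTree.node 0x2080208 ⟨[2, 8, 2, 8], [], 5, false⟩ (RTree.node 0x2070207 ⟨[2, 7, 2, 7], [], 4, false⟩ (RTree.node 0x2060206 ⟨[2, 6, 2, 6], [], 3, false⟩ (RTree.leaf) (RTree.leaf)) (RTree.leaf)) (RTree.node 0x3040304 ⟨[3, 4, 3, 4], [], 55, false⟩ (RTree.node 0x3020302 ⟨[3, 2, 3, 2], [], 48, true⟩ (RTree.leaf) (RTree.leaf)) (RTree.leaf))) (RTree.node 0x5020502 ⟨[5, 2, 5, 2], [], 2, true⟩ (RTree.node 0x4050405 ⟨[4, 5, 4, 5], [], 61, false⟩ (RTree.node 0x4020402 ⟨[4, 2, 4, 2], [], 1, true⟩ (RTree.leaf) (RTree.leaf)) (RTree.leaf)) (RTree.node 0x5060506 ⟨[5, 6, 5, 6], [], 66, false⟩ (RTree.leaf) (RTree.leaf)))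
def rt0_22 : RTree := RTree.node 0x2050205 ⟨[2, 5, 2, 5], [], 2, false⟩ (rt0_11) (rt12_22)
def rt23_33 : RTree := RTree.node 0x30203020302 ⟨[3, 2, 3, 2, 3, 2], [], 0, true⟩ (RTree.node 0x7080708 ⟨[7, 8, 7, 8], [], 73, false⟩ (RTree.node 0x7020702 ⟨[7, 2, 7, 2], [], 4, true⟩ (RTree.node 0x6020602 ⟨[6, 2, 6, 2], [], 3, true⟩ (RTree.leaf) (RTree.leaf)) (RTree.leaf)) (RTree.node 0x8090809 ⟨[8, 9, 8, 9], [], 75, false⟩ (RTree.node 0x8020802 ⟨[8, 2, 8, 2], [], 5, true⟩ (RTree.leaf) (RTree.leaf)) (RTree.leaf))) (RTree.node 0x40304030403 ⟨[4, 3, 4, 3, 4, 3], [], 7, true⟩ (RTree.node 0x30703070307 ⟨[3, 7, 3, 7, 3, 7], [], 10, false⟩ (RTree.node 0x30403040304 ⟨[3, 4, 3, 4, 3, 4], [], 7, false⟩ (RTree.leaf) (RTree.leaf)) (RTree.leaf)) (RTree.node 0x40504050405 ⟨[4, 5, 4, 5, 4, 5], [], 13, false⟩ (RTree.leaf) (RTree.leaf)))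
def rt34_44 : RTree := RTree.node 0x80908090809 ⟨[8, 9, 8, 9, 8, 9], [], 27, false⟩ (RTree.node 0x70307030703 ⟨[7, 3, 7, 3, 7, 3], [], 10, true⟩ (RTree.node 0x60506050605 ⟨[6, 5, 6, 5, 6, 5], [], 18, true⟩ (RTree.node 0x50605060506 ⟨[5, 6, 5, 6, 5, 6], [], 18, false⟩ (RTree.leaf) (RTree.leaf)) (RTree.leaf)) (RTree.node 0x80708070807 ⟨[8, 7, 8, 7, 8, 7], [], 25, true⟩ (RTree.node 0x70807080708 ⟨[7, 8, 7, 8, 7, 8], [], 25, false⟩ (RTree.leaf) (RTree.leaf)) (RTree.leaf))) (RTree.node 0x70304050602080703040506020807030405060208070304050602080703040506020807030405060208070304050602080703040506020807030405060208 ⟨[7, 3, 4, 5, 6, 2, 8, 7, 3, 4, 5, 6, 2, 8, 7, 3, 4, 5, 6, 2, 8, 7, 3, 4, 5, 6, 2, 8, 7, 3, 4, 5, 6, 2, 8, 7, 3, 4, 5, 6, 2, 8, 7, 3, 4, 5, 6, 2, 8, 7, 3, 4, 5, 6, 2, 8, 7, 3, 4, 5, 6, 2, 8], [14], 36, false⟩ (RTree.node 0x1070307040307050403070203070403050402030709050403070203040509 ⟨[1, 7, 3, 7,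 4, 3, 7, 5, 4, 3, 7, 2, 3, 7, 4, 3, 5, 4, 2, 3, 7, 9, 5, 4, 3, 7, 2, 3, 4, 5, 9], [0], 39, false⟩ (RTree.node 0x90509050905 ⟨[9, 5, 9, 5, 9, 5], [], 21, true⟩ (RTree.leaf) (RTree.leaf)) (RTree.leaf)) (RTree.node 0x80206050403070802060504030708020605040307080206050403070802060504030708020605040307080206050403070802060504030708020605040307 ⟨[8, 2, 6, 5, 4, 3, 7, 8, 2, 6, 5, 4, 3, 7, 8, 2, 6, 5, 4, 3, 7, 8, 2, 6, 5, 4, 3, 7, 8, 2, 6, 5, 4, 3, 7, 8, 2, 6, 5, 4, 3, 7, 8, 2, 6, 5, 4, 3, 7, 8, 2, 6, 5, 4, 3, 7, 8, 2, 6, 5, 4, 3, 7], [14], 36, true⟩ (RTree.leaf) (RTree.leaf)))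
def rt23_44 : RTree := RTree.node 0x50405040504 ⟨[5, 4, 5, 4, 5, 4], [], 13, true⟩ (rt23_33) (rt34_44)
def rt0_44 : RTree := RTree.node 0x5090509 ⟨[5, 9, 5, 9], [], 69, false⟩ (rt0_22) (rt23_44)
def RT : RTree := rt0_44

def NT : List Net := [n0, n1, n2, n3, n4, n5, n6, n7, n8]
def LT : List Let := [⟨0, false, 0, 0, []⟩, l1, l2, l3, l4, l5, l6, l7, l8, l9]
def T : Tab := ⟨NT, LT⟩
def EX : List (List Nat) := [[], [0], [2], [4], [6], [8], [10], [12], [14], [16]]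
def RL : List (List Nat) := [[2, 4, 2, 4, 2, 4], [2, 6, 2, 6], [2, 8, 2, 8], [2, 10, 2, 10], [2, 12, 2, 12], [2, 14, 2, 14], [2, 16, 2, 16], [4, 6, 4, 6, 4, 6], [4, 8, 4, 8], [4, 10, 4, 10], [4, 12, 4, 12, 4, 12], [4, 14, 4, 14], [4, 16, 4, 16], [6, 8, 6, 8, 6, 8], [6, 10, 6, 10], [6, 12, 6, 12], [6, 14, 6, 14], [6, 16, 6, 16], [8, 10, 8, 10, 8, 10], [8, 12, 8, 12], [8, 14, 8, 14], [8, 16, 8, 16, 8, 16], [10, 12, 10, 12], [10, 14, 10, 14], [10, 16, 10, 16], [12, 14, 12, 14, 12, 14], [12, 16, 12, 16], [14, 16, 14, 16, 14, 16], [0, 2, 0, 2], [0, 4, 0, 4], [0, 6, 0, 6], [0, 8, 0, 8], [0, 10, 0, 10], [0, 12, 0, 12], [0, 14, 0, 14], [0, 16, 0, 16], [14, 12, 4, 6, 8, 10, 2, 14, 12, 4, 6, 8, 10, 2, 14, 12, 4, 6, 8, 10, 2, 14, 12, 4, 6, 8, 10, 2, 14, 12, 4, 6, 8, 10, 2, 14, 12, 4, 6, 8, 10, 2, 14, 12, 4, 6, 8, 10, 2, 14, 12, 4, 6, 8, 10, 2, 14, 12, 4, 6, 8, 10, 2], [12, 14, 4, 12, 6, 4, 8, 6, 16, 8, 14, 12,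 4, 6, 16, 14, 8, 16, 12, 14, 4, 6, 8, 16], [12, 4, 12, 6, 4, 12, 8, 6, 4, 12, 10, 8, 6, 4, 12, 16, 8, 6, 4, 10, 8, 16, 12, 6, 8, 10, 4, 6, 8, 16], [12, 4, 12, 6, 4, 12, 8, 6, 4, 12, 2, 4, 12, 6, 4, 8, 6, 2, 4, 12, 16, 8, 6, 4, 12, 2, 4, 6, 8, 16, 0], [0, 2, 0, 2], [0, 4, 0, 4], [0, 6, 0, 6], [0, 8, 0, 8], [0, 10, 0, 10], [0, 12, 0, 12], [0, 14, 0, 14], [0, 16, 0, 16], [2, 4, 2, 4], [2, 6, 2, 6], [2, 8, 2, 8], [2, 10, 2, 10], [2, 12, 2, 12], [2, 14, 2, 14], [2, 16, 2, 16], [4, 6, 4, 6], [4, 8, 4, 8], [4, 10, 4, 10], [4, 12, 4, 12], [4, 14, 4, 14], [4, 16, 4, 16], [6, 8, 6, 8], [6, 10, 6, 10], [6, 12, 6, 12], [6, 14, 6, 14], [6, 16, 6, 16], [8, 10, 8, 10], [8, 12, 8, 12], [8, 14, 8, 14], [8, 16, 8, 16], [10, 12, 10, 12], [10, 14, 10, 14], [10, 16, 10, 16], [12, 14, 12, 14], [12, 16, 12, 16], [14, 16, 14, 16]]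
def XL : List (List Nat) := []
def BW : List (List Nat) := []
def IV : Nat := 0x9080706050403020100
def L : List Nat := [1, 2, 3, 4, 5, 6, 7, 8, 9]
def gs : List Nat := [1, 2, 3, 4, 5, 6, 7, 8, 9]
def base : List Nat := []

end Cfsg.Agent.Spor.U12672A1
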